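import Groth.Agent.CAlgCompl.Basic
import Groth.Prelude.Def_CAlgX
import Mathlib.RingTheory.AdicCompletion.AsTensorProduct
import Mathlib.RingTheory.Flat.EquationalCriterion
import Mathlib.RingTheory.Filtration

/-!
# Completions of free modules over Noetherian rings
-/

universe u

open TensorProduct AdicCompletion

namespace Groth.Agent.CAlgComplFree

variable {R : Type u} [CommRing R] (I : Ideal R) {α : Type u}

local notation "Rc" => AdicCompletion I R

/-- The coordinates of an element of the completion of a free module. -/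
noncomputable def coord (α : Type u) : AdicCompletion I (α →₀ R) →ₗ[R] (α → Rc) :=
  LinearMap.pi fun a : α => (AdicCompletion.map I (Finsupp.lapply a : (α →₀ R) →ₗ[R] R)).restrictScalars R

theorem mem_pow_smul_iff (n : ℕ) (f : α →₀ R) :
    f ∈ I ^ n • (⊤ : Submodule R (α →₀ R)) ↔ ∀ a, f a ∈ I ^ n := by
  classical
  refine ⟨fun hf a => ?_, fun hf => ?_⟩
  · induction hf using Submodule.smul_induction_on' with
    | smul r hr x _ => exact Ideal.mul_mem_right _ _ hr
    | add x _ y _ hx hy => exact add_mem hx hy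
  · rw [← f.sum_single]
    refine Submodule.sum_mem _ fun a _ => ?_
    rw [← mul_one (f a), ← smul_eq_mul, ← Finsupp.smul_single]
    exact Submodule.smul_mem_smul (hf a) trivial

theorem val_eq_zero_iff [IsNoetherianRing R] (z : Rc) (n : ℕ) :
    z.val n = 0 ↔ z ∈ (I.map (algebraMap R Rc)) ^ n := by
  have h := AdicCompletion.pow_smul_top_eq_ker_eval (M := R) (n := n) I.fg_of_isNoetherianRing
  rw [← Ideal.map_pow, ← Submodule.restrictScalars_mem R, ← Ideal.smul_top_eq_map, h]
  rfl

theorem coord_val (x : AdicCompletion I (α →₀ R)) (n : ℕ) (f : α →₀ R)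
    (hf : x.val n = Submodule.Quotient.mk f) (a : α) :
    (coord I α x a).val n = Submodule.Quotient.mk (f a) := by
  show (Finsupp.lapply a : (α →₀ R) →ₗ[R] R).reduceModIdeal (I ^ n) (x.val n) = _
  rw [hf]
  rfl

theorem coord_injective : Function.Injective (coord I α) := by
  refine (injective_iff_map_eq_zero _).2 fun x hx => ?_
  refine AdicCompletion.ext fun n => ?_
  obtain ⟨f, hf⟩ := Submodule.Quotient.mk_surjective _ (x.val n)
  rw [← hf, AdicCompletion.val_zero, Pi.zero_apply, Submodule.Quotient.mk_eq_zero, mem_pow_smul_iff]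
  intro a
  have h1 := coord_val I x n f hf.symm a
  rw [hx, Pi.zero_apply, AdicCompletion.val_zero, Pi.zero_apply, eq_comm, Submodule.Quotient.mk_eq_zero,
    smul_eq_mul, Ideal.mul_top] at h1
  exact h1

theorem finite_coord (x : AdicCompletion I (α →₀ R)) (n : ℕ) :
    {a | (coord I α x a).val n ≠ 0}.Finite := by
  obtain ⟨f, hf⟩ := Submodule.Quotient.mk_surjective _ (x.val n)
  refine f.support.finite_toSet.subset fun a ha => ?_
  rw [Finset.mem_coe, Finsupp.mem_support_iff]
  intro h0
  apply ha
  rw [coord_val I x n f hf.symm, h0, Submodule.Quotient.mk_zero]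

/-- Null families of elements of the completion come from the completion of the free module. -/
theorem exists_of_finite (y : α → Rc) (hy : ∀ n, {a | (y a).val n ≠ 0}.Finite) :
    ∃ x, coord I α x = y := by
  classical
  have hf : ∀ n, ∃ f : α →₀ R, ∀ a, Submodule.Quotient.mk (f a) = (y a).val n := fun n => by
    choose r hr using fun a => Submodule.Quotient.mk_surjective _ ((y a).val n)
    refine ⟨Finsupp.onFinset (hy n).toFinset (fun a => if a ∈ (hy n).toFinset then r a else 0)
      (fun a ha => by by_contra h; exact ha (if_neg h)), fun a => ?_⟩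
    rw [Finsupp.onFinset_apply]
    split_ifs with h
    · exact hr a
    · rw [Set.Finite.mem_toFinset, Set.mem_ofPred_eq, not_not] at h
      rw [h, Submodule.Quotient.mk_zero]
  choose f hf using hf
  refine ⟨⟨fun n => Submodule.Quotient.mk (f n), fun {m n} hmn => ?_⟩, funext fun a => ?_⟩
  · show Submodule.Quotient.mk (f n) = Submodule.Quotient.mk (f m)
    rw [Submodule.Quotient.eq, mem_pow_smul_iff]
    intro a
    have h1 := (y a).2 hmn
    rw [← hf n a, ← hf m a] at h1
    change Submodule.Quotient.mk (f n a) = Submodule.Quotient.mk (f m a) at h1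
    rw [Submodule.Quotient.eq, smul_eq_mul, Ideal.mul_top] at h1
    exact h1
  · exact AdicCompletion.ext fun n => (coord_val I _ n (f n) rfl a).trans (hf n a)

variable [IsNoetherianRing R]

/-- The key lemma: vectors of null families lying coordinatewise in the span of constant vectors
are combinations of null families. -/
theorem exists_combination {k m : ℕ} (w : Fin m → Fin k → R) (x : Fin k → AdicCompletion I (α →₀ R))
    (hx : ∀ a, ∃ p : Fin m → Rc, ∀ i, coord I α (x i) a = ∑ j, w j i • p j) :
    ∃ y : Fin m → AdicCompletion I (α →₀ R), ∀ i, x i = ∑ j, w j i • y j := by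
  classical
  haveI : IsNoetherianRing Rc := Groth.Agent.CAlgCompl.isNoetherianRing_adicCompletion_of_fg I I.fg_of_isNoetherianRing
  let J := I.map (algebraMap R Rc)
  let Φ : (Fin m → Rc) →ₗ[Rc] (Fin k → Rc) :=
    Fintype.linearCombination Rc fun j i => algebraMap R Rc (w j i)
  have hΦ : ∀ p i, Φ p i = ∑ j, w j i • p j := fun p i => by
    simp [Φ, Fintype.linearCombination_apply, Algebra.smul_def, mul_comm]
  have hpi : ∀ {d : ℕ} (n : ℕ) (v : Fin d → Rc), v ∈ J ^ n • (⊤ : Submodule Rc (Fin d → Rc)) ↔ ∀ i, v i ∈ J ^ n := by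
    intro d n v
    refine ⟨fun hv i => ?_, fun hv => ?_⟩
    · induction hv using Submodule.smul_induction_on' with
      | smul r hr z _ => exact Ideal.mul_mem_right _ _ hr
      | add z _ z' _ hz hz' => exact add_mem hz hz'
    · rw [pi_eq_sum_univ v]
      exact Submodule.sum_mem _ fun i _ => Submodule.smul_mem_smul (hv i) trivial
  obtain ⟨c, hc⟩ := Ideal.exists_pow_inf_eq_pow_smul J (LinearMap.range Φ)
  let v : α → Fin k → Rc := fun a i => coord I α (x i) a
  have hv : ∀ a, v a ∈ LinearMap.range Φ := fun a => by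
    obtain ⟨p, hp⟩ := hx a
    exact ⟨p, funext fun i => by rw [hΦ]; exact (hp i).symm⟩
  have hsel : ∀ a, ∃ p : Fin m → Rc, Φ p = v a ∧
      ∀ n, (∃ j, (p j).val n ≠ 0) → ∃ i, (v a i).val (n + c) ≠ 0 := by
    intro a
    by_cases h0 : v a = 0
    · exact ⟨0, by rw [_root_.map_zero, h0], fun n ⟨j, hj⟩ => absurd rfl hj⟩
    have hex : ∃ n, ∃ i, (v a i).val n ≠ 0 := by
      by_contra! h
      exact h0 (funext fun i => AdicCompletion.ext fun n => h n i)
    let N := Nat.find hex
    have hN := Nat.find_spec hex
    rcases le_or_gt N c with hNc | hNc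
    · obtain ⟨p, hp⟩ := hv a
      refine ⟨p, hp, fun n _ => ?_⟩
      obtain ⟨i, hi⟩ := hN
      refine ⟨i, fun h => hi ?_⟩
      rw [val_eq_zero_iff] at h ⊢
      exact Ideal.pow_le_pow_right (by omega) h
    · have h1 : v a ∈ J ^ (N - 1) • (⊤ : Submodule Rc (Fin k → Rc)) := (hpi _ _).2 fun i => by
        rw [← val_eq_zero_iff]
        by_contra h
        exact Nat.find_min hex (show N - 1 < N by omega) ⟨i, h⟩
      have h2 : v a ∈ J ^ (N - 1 - c) • LinearMap.range Φ := by
        have h3 : v a ∈ J ^ (N - 1) • ⊤ ⊓ LinearMap.range Φ := ⟨h1, hv a⟩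
        rw [hc _ (by omega)] at h3
        exact Submodule.smul_mono le_rfl inf_le_right h3
      rw [← Submodule.map_top, ← Submodule.map_smul''] at h2
      obtain ⟨p, hp, hpv⟩ := h2
      refine ⟨p, hpv, fun n ⟨j, hj⟩ => ?_⟩
      obtain ⟨i, hi⟩ := hN
      refine ⟨i, fun h => hi ?_⟩
      have h4 : ¬ n ≤ N - 1 - c := fun hn => hj ((val_eq_zero_iff I _ _).2
        (Ideal.pow_le_pow_right hn ((hpi _ _).1 hp j)))
      rw [val_eq_zero_iff] at h ⊢
      exact Ideal.pow_le_pow_right (by omega) h
  choose p hp hpn using hsel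
  have hnull : ∀ j n, {a | (p a j).val n ≠ 0}.Finite := fun j n =>
    ((Finset.univ : Finset (Fin k)).finite_toSet.biUnion fun i _ => finite_coord I (x i) (n + c)).subset
      fun a ha => Set.mem_biUnion (x := (hpn a n ⟨j, ha⟩).choose) (Finset.mem_univ _) (hpn a n ⟨j, ha⟩).choose_spec
  choose y hy using fun j => exists_of_finite I (fun a => p a j) (hnull j)
  refine ⟨y, fun i => coord_injective I (funext fun a => ?_)⟩
  have h5 := congrArg (fun q => q i) (hp a)
  rw [hΦ] at h5
  rw [map_sum, Finset.sum_apply]
  refine h5.symm.trans (Finset.sum_congr rfl fun j _ => ?_)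
  rw [map_smul, Pi.smul_apply, hy j]

theorem flat (α : Type u) : Module.Flat R (AdicCompletion I (α →₀ R)) := by
  classical
  refine Module.Flat.of_forall_isTrivialRelation fun {l r x} hrel => ?_
  obtain ⟨m, w, hw⟩ := Submodule.fg_iff_exists_fin_generating_family.1
    (IsNoetherian.noetherian (LinearMap.ker (Fintype.linearCombination R r : (Fin l → R) →ₗ[R] R)))
  obtain ⟨y, hy⟩ := exists_combination I w x fun a => by
    have h0 : ∑ i, r i • coord I α (x i) a = 0 := by
      have := congrFun (congrArg (coord I α) hrel) a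
      simpa [map_sum] using this
    obtain ⟨d, b, z, hbz, hrb⟩ := Module.Flat.isTrivialRelation_of_sum_smul_eq_zero h0
    have hb : ∀ e, (fun i => b i e) ∈ Submodule.span R (Set.range w) := fun e => by
      rw [hw, LinearMap.mem_ker, Fintype.linearCombination_apply, ← hrb e]
      simp [mul_comm]
    choose q hq using fun e => Submodule.mem_span_range_iff_exists_fun R |>.1 (hb e)
    refine ⟨fun j => ∑ e, q e j • z e, fun i => ?_⟩
    rw [show coord I α (x i) a = _ from hbz i]
    simp only [Finset.smul_sum, smul_smul]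
    rw [Finset.sum_comm]
    refine Finset.sum_congr rfl fun e _ => ?_
    rw [← Finset.sum_smul]
    congr 1
    have h1 := congrFun (hq e) i
    simp only [Finset.sum_apply, Pi.smul_apply, smul_eq_mul] at h1
    rw [← h1]
    exact Finset.sum_congr rfl fun j _ => mul_comm _ _
  refine ⟨m, fun i j => w j i, y, fun i => hy i, fun j => ?_⟩
  have h2 : w j ∈ LinearMap.ker (Fintype.linearCombination R r : (Fin l → R) →ₗ[R] R) := hw ▸ Submodule.subset_span ⟨j, rfl⟩
  rw [LinearMap.mem_ker, Fintype.linearCombination_apply] at h2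
  rw [← h2]
  simp [mul_comm]

omit [IsNoetherianRing R] in
/-- A map along which linear systems with constant coefficients can be solved is universally injective. -/
theorem universallyInjective_of_combination {C P : Type u} [AddCommGroup C] [Module R C] [AddCommGroup P]
    [Module R P] (φ : C →ₗ[R] P)
    (h : ∀ (k m : ℕ) (w : Fin m → Fin k → R) (x : Fin k → C), (∃ p : Fin m → P, ∀ i, φ (x i) = ∑ j, w j i • p j) →
      ∃ y : Fin m → C, ∀ i, x i = ∑ j, w j i • y j) : CAlgX.UniversallyInjective R φ := by
  classical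
  intro Q _ _
  refine (injective_iff_map_eq_zero _).2 fun z hz => ?_
  let q : (Q →₀ R) →ₗ[R] Q := Finsupp.linearCombination R id
  have hq : Function.Surjective q := fun m => ⟨Finsupp.single m 1, (Finsupp.linearCombination_single R 1 m).trans (one_smul R m)⟩
  let ι : LinearMap.ker q →ₗ[R] (Q →₀ R) := (LinearMap.ker q).subtype
  have hex : Function.Exact ι q := fun x => (LinearMap.exact_subtype_ker_map q) x
  obtain ⟨z₁, rfl⟩ := LinearMap.lTensor_surjective C hq z
  have hlt := lTensor_exact (M := LinearMap.ker q) P (f := ι) (g := q) hex hq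
  obtain ⟨t, ht⟩ := (hlt (φ.rTensor _ z₁)).1 (by
    rw [← LinearMap.comp_apply, LinearMap.lTensor_comp_rTensor, ← LinearMap.rTensor_comp_lTensor, LinearMap.comp_apply, hz])
  obtain ⟨S, hS⟩ := TensorProduct.exists_finset t
  let c₀ : Q →₀ C := finsuppScalarRight R R _ Q z₁
  let s : Finset Q := c₀.support ∪ S.biUnion fun i => i.2.1.support
  let e := s.equivFin
  let w : Fin S.card → Fin s.card → R := fun j i => (S.equivFin.symm j).1.2.1 (e.symm i).1
  have hcoord : ∀ m : Q, φ (c₀ m) = ∑ i ∈ S, (i.2.1 m) • i.1 := by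
    intro m
    have key : ∀ u : C ⊗[R] (Q →₀ R), φ (finsuppScalarRight R R _ Q u m) =
        finsuppScalarRight R R P Q (φ.rTensor _ u) m := fun u => by
      induction u using TensorProduct.induction_on with
      | zero => simp
      | tmul a b => simp only [LinearMap.rTensor_tmul, finsuppScalarRight_apply_tmul_apply, map_smul]
      | add a b ha hb => simp [ha, hb]
    rw [key, ← ht, hS, map_sum, map_sum, Finsupp.finsetSum_apply]
    refine Finset.sum_congr rfl fun i _ => ?_
    rw [LinearMap.lTensor_tmul, finsuppScalarRight_apply_tmul_apply]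
    rfl
  obtain ⟨y, hy⟩ := h _ _ w (fun i => c₀ (e.symm i).1)
    ⟨fun j => (S.equivFin.symm j).1.1, fun i => by
      rw [hcoord, ← Finset.sum_coe_sort S, ← Equiv.sum_comp S.equivFin.symm]⟩
  have hz₁ : z₁ = ι.lTensor _ (∑ j : Fin S.card, y j ⊗ₜ[R] (S.equivFin.symm j).1.2) := by
    apply (finsuppScalarRight R R C Q).injective
    ext m : 1
    rw [map_sum, map_sum, Finsupp.finsetSum_apply]
    show c₀ m = _
    by_cases hm : m ∈ s
    · have h1 := hy (e ⟨m, hm⟩)
      rw [Equiv.symm_apply_apply] at h1
      rw [show c₀ m = _ from h1]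
      refine Finset.sum_congr rfl fun j _ => ?_
      rw [LinearMap.lTensor_tmul, finsuppScalarRight_apply_tmul_apply]
      simp [w, ι]
    · rw [Finsupp.notMem_support_iff.1 fun h => hm (Finset.mem_union_left _ h)]
      refine (Finset.sum_eq_zero fun j _ => ?_).symm
      rw [LinearMap.lTensor_tmul, finsuppScalarRight_apply_tmul_apply]
      have : (S.equivFin.symm j).1.2.1 m = 0 := Finsupp.notMem_support_iff.1 fun h =>
        hm (Finset.mem_union_right _ (Finset.mem_biUnion.2 ⟨_, (S.equivFin.symm j).2, h⟩))
      simp [ι, this]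
  rw [hz₁, ← LinearMap.comp_apply, ← LinearMap.lTensor_comp,
    show q ∘ₗ ι = 0 from LinearMap.ext fun u => u.2]
  simp

theorem universallyInjective (α : Type u) : CAlgX.UniversallyInjective R (coord I α) :=
  universallyInjective_of_combination (coord I α) fun k m w x ⟨p, hp⟩ =>
    exists_combination I w x fun a => ⟨fun j => p j a, fun i => by simp [hp i]⟩

end Groth.Agent.CAlgComplFree
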